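import Cfsg.Agent.R2.Spec.X1.TD.Spec

set_option autoImplicit false

/-!
# Numerical facts on the element orders of `³D₄(q)` (helper135)
-/

namespace Cfsg.Agent.R2.Spec.X1.TD

/-! ### factorisations -/

theorem mm_eq (q : ℕ) : mm q + q ^ 2 = q ^ 4 + 1 := by
  unfold mm
  have : q ^ 2 ≤ q ^ 4 := by
    rcases Nat.eq_zero_or_pos q with rfl | h
    · simp
    · exact Nat.pow_le_pow_right h (by norm_num)
  omega

theorem mm_mul (q : ℕ) : mm q * (q ^ 2 + 1) = q ^ 6 + 1 := by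
  have h := mm_eq q
  have h1 : (mm q + q ^ 2) * (q ^ 2 + 1) = (q ^ 4 + 1) * (q ^ 2 + 1) := by rw [h]
  have h2 : (mm q + q ^ 2) * (q ^ 2 + 1) = mm q * (q ^ 2 + 1) + q ^ 2 * (q ^ 2 + 1) := by ring
  have h3 : (q ^ 4 + 1) * (q ^ 2 + 1) = (q ^ 6 + 1) + q ^ 2 * (q ^ 2 + 1) := by ring
  omega

theorem mm_odd (q : ℕ) : ¬ 2 ∣ mm q := by
  intro h
  have h1 := mm_eq q
  have h2 : 2 ∣ q ^ 4 + q ^ 2 := by
    have : q ^ 4 + q ^ 2 = q * (q + 1) * (q ^ 2 - q + 2) - 2 * q := by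
      rcases Nat.eq_zero_or_pos q with rfl | h
      · simp
      · obtain ⟨a, rfl⟩ : ∃ a, q = a + 1 := ⟨q - 1, by omega⟩
        have e1 : (a + 1) ^ 2 - (a + 1) = a * (a + 1) := by
          have : (a + 1) ^ 2 = a * (a + 1) + (a + 1) := by ring
          omega
        rw [e1]
        have e2 : (a + 1) * (a + 1 + 1) * (a * (a + 1) + 2) = (a + 1) ^ 4 + (a + 1) ^ 2 + 2 * (a + 1) := by ring
        omega
    rw [this]
    refine Nat.dvd_sub ?_ (Dvd.intro _ rfl)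
    exact Dvd.dvd.mul_right (Nat.even_mul_succ_self q).two_dvd _
  omega

section

variable {p q : ℕ}

theorem sq_sub (hq : 1 ≤ q) : q ^ 2 - q + 1 + q = q ^ 2 + 1 := by
  have : q ≤ q ^ 2 := by nlinarith
  omega

theorem cube_sub (hq : 1 ≤ q) : q ^ 3 - 1 = (q ^ 2 + q + 1) * (q - 1) := by
  obtain ⟨a, rfl⟩ : ∃ a, q = a + 1 := ⟨q - 1, by omega⟩
  have : (a + 1) ^ 3 = ((a + 1) ^ 2 + (a + 1) + 1) * a + 1 := by ring
  rw [this]
  simp

theorem cube_add (hq : 1 ≤ q) : q ^ 3 + 1 = (q ^ 2 - q + 1) * (q + 1) := by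
  have h := sq_sub hq
  have h1 : (q ^ 2 - q + 1 + q) * (q + 1) = (q ^ 2 + 1) * (q + 1) := by rw [h]
  have h2 : (q ^ 2 - q + 1 + q) * (q + 1) = (q ^ 2 - q + 1) * (q + 1) + q * (q + 1) := by ring
  have h3 : (q ^ 2 + 1) * (q + 1) = q ^ 3 + 1 + q * (q + 1) := by ring
  omega

/-- a prime divisor of `mm q` is odd, and divides neither `q` nor `q ^ 3 - 1` nor `q ^ 3 + 1` -/
theorem prime_mm (hq : 1 ≤ q) {r : ℕ} (hr : r.Prime) (h : r ∣ mm q) :
    r ≠ 2 ∧ ¬ r ∣ q ∧ ¬ r ∣ q ^ 3 - 1 ∧ ¬ r ∣ q ^ 3 + 1 := by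
  have h2 : r ≠ 2 := by
    rintro rfl
    exact mm_odd q h
  have h6 : r ∣ q ^ 6 + 1 := by
    rw [← mm_mul]
    exact Dvd.dvd.mul_right h _
  have hno2 : ¬ r ∣ 2 := fun h => h2 ((Nat.prime_dvd_prime_iff_eq hr Nat.prime_two).1 h)
  refine ⟨h2, ?_, ?_, ?_⟩
  · intro hrq
    have h1 : r ∣ q ^ 6 := Dvd.dvd.pow hrq (by norm_num)
    have h3 := (Nat.dvd_add_right h1).1 h6
    exact hr.one_lt.ne' (Nat.dvd_one.1 h3)
  · intro h3
    have h4 : r ∣ q ^ 6 - 1 := by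
      have e : q ^ 6 - 1 = (q ^ 3 - 1) * (q ^ 3 + 1) := by
        obtain ⟨b, hb⟩ : ∃ b, q ^ 3 = b + 1 := ⟨q ^ 3 - 1, by have := Nat.one_le_pow 3 q hq; omega⟩
        have : q ^ 6 = (q ^ 3) ^ 2 := by ring
        rw [this, hb]
        have : (b + 1) ^ 2 = b * (b + 1 + 1) + 1 := by ring
        rw [this]
        simp
      rw [e]
      exact Dvd.dvd.mul_right h3 _
    have h5 := Nat.dvd_sub h6 h4
    have h7 := Nat.one_le_pow 6 q hq
    have h8 : q ^ 6 + 1 - (q ^ 6 - 1) = 2 := by omega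
    rw [h8] at h5
    exact hno2 h5
  · intro h3
    have h4 : r ∣ q ^ 6 - 1 := by
      have e : q ^ 6 - 1 = (q ^ 3 - 1) * (q ^ 3 + 1) := by
        obtain ⟨b, hb⟩ : ∃ b, q ^ 3 = b + 1 := ⟨q ^ 3 - 1, by have := Nat.one_le_pow 3 q hq; omega⟩
        have : q ^ 6 = (q ^ 3) ^ 2 := by ring
        rw [this, hb]
        have : (b + 1) ^ 2 = b * (b + 1 + 1) + 1 := by ring
        rw [this]
        simp
      rw [e]
      exact Dvd.dvd.mul_left h3 _
    have h5 := Nat.dvd_sub h6 h4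
    have h7 := Nat.one_le_pow 6 q hq
    have h8 : q ^ 6 + 1 - (q ^ 6 - 1) = 2 := by omega
    rw [h8] at h5
    exact hno2 h5

/-- **the prime divisors of `mm q` are isolated** -/
theorem Om.mm_of_prime (hP : Par p q) {n : ℕ} (h : Om p q n) {r : ℕ} (hr : r.Prime) (hrm : r ∣ mm q) (hrn : r ∣ n) :
    n ∣ mm q := by
  have hq : 1 ≤ q := by have := hP.hq; omega
  obtain ⟨h2, h0, hm, hp⟩ := prime_mm hq hr hrm
  have hm1 : ¬ r ∣ q - 1 := fun h => hm (by rw [cube_sub hq]; exact Dvd.dvd.mul_left h _)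
  have hp1 : ¬ r ∣ q + 1 := fun h => hp (by rw [cube_add hq]; exact Dvd.dvd.mul_left h _)
  have hpp := hP.p_dvd
  have hrp : ¬ r ∣ p := fun h => h0 (h.trans hpp)
  rcases h with h | h | h | h | h | h
  · exact h
  · exfalso
    rcases (hr.dvd_mul).1 (hrn.trans h) with h | h
    · exact hm h
    · exact hp1 h
  · exfalso
    rcases (hr.dvd_mul).1 (hrn.trans h) with h | h
    · exact hp h
    · exact hm1 h
  · exfalso
    rcases (hr.dvd_mul).1 (hrn.trans h) with h | h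
    · exact hrp h
    · exact hm h
  · exfalso
    rcases (hr.dvd_mul).1 (hrn.trans h) with h | h
    · exact hrp h
    · exact hp h
  · exact absurd (hr.dvd_of_dvd_pow (hrn.trans h)) hrp

/-- the product of a prime divisor of `mm q` and any prime not dividing `mm q` is not an element order -/
theorem not_om_mul (hP : Par p q) {r s : ℕ} (hr : r.Prime) (hrm : r ∣ mm q) (hs : ¬ s ∣ mm q) :
    ¬ Om p q (r * s) := fun h => hs ((Dvd.intro_left _ rfl).trans (h.mm_of_prime hP hr hrm (Dvd.intro _ rfl)))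

theorem mm_ne_one (hP : Par p q) : mm q ≠ 1 := by
  obtain ⟨a, rfl⟩ := hP.exists_add
  rw [mm_add]
  have : 0 < (a + 3) ^ 2 * ((a + 2) * (a + 4)) := by positivity
  omega

theorem exists_prime_mm (hP : Par p q) : ∃ r, r.Prime ∧ r ∣ mm q := Nat.exists_prime_and_dvd (mm_ne_one hP)

/-! ### primes of order three and six -/

theorem not_nine_dvd (q : ℕ) : ¬ 9 ∣ q ^ 2 + q + 1 := by
  intro h
  have h1 : (q ^ 2 + q + 1) % 9 = 0 := Nat.mod_eq_zero_of_dvd h
  have h2 : q % 9 < 9 := Nat.mod_lt _ (by norm_num)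
  rw [Nat.add_mod, Nat.add_mod (q ^ 2), Nat.pow_mod] at h1
  interval_cases (q % 9) <;> simp at h1

theorem exists_prime_ne_three {N : ℕ} (hN : 3 < N) (h9 : ¬ 9 ∣ N) : ∃ r, r.Prime ∧ r ≠ 3 ∧ r ∣ N := by
  by_contra hcon
  push Not at hcon
  have h1 : ∀ r, r.Prime → r ∣ N → r = 3 := fun r hr hd => by
    by_contra h
    exact hcon r hr h hd
  have h2 := Nat.eq_prime_pow_of_unique_prime_dvd (n := N) (p := 3) (by omega) (fun {d} hd hdN => h1 d hd hdN)
  rcases Nat.lt_or_ge N.primeFactorsList.length 2 with h3 | h3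
  · have h4 : N ≤ 3 ^ 1 := by
      rw [h2]
      exact Nat.pow_le_pow_right (by norm_num) (by omega)
    omega
  · apply h9
    rw [h2]
    exact (by norm_num : (9 : ℕ) = 3 ^ 2) ▸ pow_dvd_pow 3 h3

/-- primes of order 3 -/
theorem exists_r3 (hP : Par p q) : ∃ r, r.Prime ∧ 5 < r ∧ r ∣ q ^ 2 + q + 1 := by
  have hq := hP.hq
  obtain ⟨r, hr, h3, hd⟩ := exists_prime_ne_three (N := q ^ 2 + q + 1) (by nlinarith) (not_nine_dvd q)
  refine ⟨r, hr, ?_, hd⟩
  have h2 : r ≠ 2 := by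
    rintro rfl
    have h1 : 2 ∣ q ^ 2 + q := by
      have : q ^ 2 + q = q * (q + 1) := by ring
      rw [this]
      exact (Nat.even_mul_succ_self q).two_dvd
    omega
  have h5 : r ≠ 5 := by
    rintro rfl
    have h1 : (q ^ 2 + q + 1) % 5 = 0 := Nat.mod_eq_zero_of_dvd hd
    have h2 : q % 5 < 5 := Nat.mod_lt _ (by norm_num)
    rw [Nat.add_mod, Nat.add_mod (q ^ 2), Nat.pow_mod] at h1
    interval_cases (q % 5) <;> simp at h1
  have h4 : r ≠ 4 := by
    rintro rfl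
    norm_num at hr
  have := hr.two_le
  omega

theorem sub_succ (hq : 1 ≤ q) : (q - 1) ^ 2 + (q - 1) + 1 = q ^ 2 - q + 1 := by
  obtain ⟨a, rfl⟩ : ∃ a, q = a + 1 := ⟨q - 1, by omega⟩
  have : (a + 1) ^ 2 = a ^ 2 + a + (a + 1) := by ring
  rw [this]
  simp

/-- primes of order 6 -/
theorem exists_r6 (hP : Par p q) : ∃ r, r.Prime ∧ 5 < r ∧ r ∣ q ^ 2 - q + 1 := by
  have hq := hP.hq
  have e := sub_succ (q := q) (by omega)
  have h7 : 3 < (q - 1) ^ 2 + (q - 1) + 1 := by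
    obtain ⟨a, rfl⟩ := hP.exists_add
    have : a + 3 - 1 = a + 2 := by omega
    rw [this]
    nlinarith
  obtain ⟨r, hr, h3, hd⟩ := exists_prime_ne_three (N := (q - 1) ^ 2 + (q - 1) + 1) h7 (not_nine_dvd (q - 1))
  refine ⟨r, hr, ?_, e ▸ hd⟩
  have h2 : r ≠ 2 := by
    rintro rfl
    have h1 : 2 ∣ (q - 1) ^ 2 + (q - 1) := by
      have : (q - 1) ^ 2 + (q - 1) = (q - 1) * ((q - 1) + 1) := by ring
      rw [this]
      exact (Nat.even_mul_succ_self (q - 1)).two_dvd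
    omega
  have h5 : r ≠ 5 := by
    rintro rfl
    have h1 : ((q - 1) ^ 2 + (q - 1) + 1) % 5 = 0 := Nat.mod_eq_zero_of_dvd hd
    have h2 : (q - 1) % 5 < 5 := Nat.mod_lt _ (by norm_num)
    rw [Nat.add_mod, Nat.add_mod ((q - 1) ^ 2), Nat.pow_mod] at h1
    interval_cases ((q - 1) % 5) <;> simp at h1
  have h4 : r ≠ 4 := by
    rintro rfl
    norm_num at hr
  have := hr.two_le
  omega

/-- primes of order 3 and 6 are not adjacent -/
theorem not_om_three_six (hP : Par p q) {r s : ℕ} (hr : r.Prime) (hr5 : 5 < r) (hrd : r ∣ q ^ 2 + q + 1) (hs : s.Prime)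
    (hs5 : 5 < s) (hsd : s ∣ q ^ 2 - q + 1) : ¬ Om p q (r * s) := by
  have hq := hP.hq
  have hq1 : 1 ≤ q := by omega
  have hr3 : r ∣ q ^ 3 - 1 := by rw [cube_sub hq1]; exact Dvd.dvd.mul_right hrd _
  have hs3 : s ∣ q ^ 3 + 1 := by rw [cube_add hq1]; exact Dvd.dvd.mul_right hsd _
  have hc : 1 ≤ q ^ 3 := Nat.one_le_pow _ _ hq1
  have small : ∀ {t : ℕ}, 5 < t → ∀ k, k ≠ 0 → k ≤ 5 → ¬ t ∣ k := by
    intro t ht k hk0 hk h
    have := Nat.le_of_dvd (by omega) h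
    omega
  have hs3' : ¬ s ∣ q ^ 3 - 1 := by
    intro h
    have h1 := Nat.dvd_sub hs3 h
    have h2 : q ^ 3 + 1 - (q ^ 3 - 1) = 2 := by omega
    rw [h2] at h1
    exact small hs5 2 (by norm_num) (by norm_num) h1
  have hr3' : ¬ r ∣ q ^ 3 + 1 := by
    intro h
    have h1 := Nat.dvd_sub h hr3
    have h2 : q ^ 3 + 1 - (q ^ 3 - 1) = 2 := by omega
    rw [h2] at h1
    exact small hr5 2 (by norm_num) (by norm_num) h1
  have hs1 : ¬ s ∣ q + 1 := by
    intro h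
    have h2 := sq_sub hq1
    have h3 : q ^ 2 - q + 1 + 2 * (q + 1) = (q + 1) * q + 3 := by
      have : (q + 1) * q = q ^ 2 + q := by ring
      omega
    have h4 : s ∣ (q + 1) * q + 3 := by
      rw [← h3]
      exact Nat.dvd_add hsd (Dvd.dvd.mul_left h 2)
    exact small hs5 3 (by norm_num) (by norm_num) ((Nat.dvd_add_right (Dvd.dvd.mul_right h _)).1 h4)
  have hr1 : ¬ r ∣ q - 1 := by
    intro h
    have h3 : q ^ 2 + q + 1 = (q - 1) * (q + 2) + 3 := by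
      obtain ⟨a, rfl⟩ : ∃ a, q = a + 1 := ⟨q - 1, by omega⟩
      rw [Nat.add_sub_cancel]
      ring
    rw [h3] at hrd
    exact small hr5 3 (by norm_num) (by norm_num) ((Nat.dvd_add_right (Dvd.dvd.mul_right h _)).1 hrd)
  have hsm : ¬ s ∣ mm q := fun h => (prime_mm hq1 hs h).2.2.2 hs3
  have hn : r ∣ r * s := Dvd.intro _ rfl
  have hn' : s ∣ r * s := Dvd.intro_left _ rfl
  have hpq := hP.p_dvd
  have hrp : ¬ r ∣ p := by
    intro h
    have h1 : r ∣ q ^ 2 + q := by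
      have : q ^ 2 + q = q * (q + 1) := by ring
      rw [this]
      exact Dvd.dvd.mul_right (h.trans hpq) _
    exact hr.one_lt.ne' (Nat.dvd_one.1 ((Nat.dvd_add_right h1).1 hrd))
  have hsp : ¬ s ∣ p := by
    intro h
    have h2 := sq_sub hq1
    have h3 : s ∣ q ^ 2 + 1 := by
      rw [← h2]
      exact Nat.dvd_add hsd (h.trans hpq)
    exact hs.one_lt.ne' (Nat.dvd_one.1 ((Nat.dvd_add_right (Dvd.dvd.pow (h.trans hpq) (by norm_num))).1 h3))
  rintro (h | h | h | h | h | h)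
  · exact hsm (hn'.trans h)
  · rcases (hs.dvd_mul).1 (hn'.trans h) with h | h
    · exact hs3' h
    · exact hs1 h
  · rcases (hr.dvd_mul).1 (hn.trans h) with h | h
    · exact hr3' h
    · exact hr1 h
  · rcases (hs.dvd_mul).1 (hn'.trans h) with h | h
    · exact hsp h
    · exact hs3' h
  · rcases (hr.dvd_mul).1 (hn.trans h) with h | h
    · exact hrp h
    · exact hr3' h
  · exact hrp (hr.dvd_of_dvd_pow (hn.trans h))

/-- prime divisors of `mm q` are at least 7 -/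
theorem five_lt_of_mm (hP : Par p q) {r : ℕ} (hr : r.Prime) (h : r ∣ mm q) : 5 < r := by
  have hq := hP.hq
  obtain ⟨h2, h0, hm, hp⟩ := prime_mm (by omega) hr h
  have h3 : r ≠ 3 := by
    rintro rfl
    have h1 : q % 3 < 3 := Nat.mod_lt _ (by norm_num)
    have hc : 1 ≤ q ^ 3 := Nat.one_le_pow _ _ (by omega)
    have e : q ^ 3 % 3 = q % 3 := by
      rw [Nat.pow_mod]
      interval_cases (q % 3) <;> rfl
    omega
  have h5 : r ≠ 5 := by
    rintro rfl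
    have h1 : (q ^ 4 + 1) % 5 = q ^ 2 % 5 := by
      rw [← mm_eq, Nat.add_mod, Nat.mod_eq_zero_of_dvd h, zero_add, Nat.mod_mod]
    have h2 : q % 5 < 5 := Nat.mod_lt _ (by norm_num)
    rw [Nat.add_mod, Nat.pow_mod, Nat.pow_mod q 2] at h1
    interval_cases (q % 5) <;> simp at h1
  have h4 : r ≠ 4 := by
    rintro rfl
    norm_num at hr
  have := hr.two_le
  omega

end

end Cfsg.Agent.R2.Spec.X1.TD
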