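import Cfsg.Agent.R2.Spec.X1.TD.Num
import Cfsg.Agent.H375.Reduce
import Cfsg.Agent.S4001
import Cfsg.Agent.S3359
import Cfsg.Agent.S3633
import Cfsg.Agent.S0042
import Cfsg.Agent.S0035
import Cfsg.Agent.S0033

set_option autoImplicit false

/-!
# The structure of a group with the element orders of `³D₄(q)` (helper135)

`exists_socle`: `G` has a soluble normal subgroup `N` such that `G / N` has a simple normal subgroup `S` with trivial
centralizer which contains an element of order `q ^ 4 - q ^ 2 + 1`.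
-/

namespace Cfsg.Agent.R2.Spec.X1.TD

open Cfsg

/-- the hypotheses on the group `G` -/
structure Hyp (p q : ℕ) (G : Type*) [Group G] : Prop where
  par : Par p q
  om : ∀ g : G, Om p q (orderOf g)
  two : ∃ g : G, orderOf g = 2
  mmo : ∃ g : G, orderOf g = mm q
  r3 : ∀ r : ℕ, r.Prime → r ∣ q ^ 2 + q + 1 → ∃ g : G, orderOf g = r
  r6 : ∀ r : ℕ, r.Prime → r ∣ q ^ 2 - q + 1 → ∃ g : G, orderOf g = r

section gen

variable {G : Type*} [Group G] [Finite G]

theorem exists_orderOf_dvd {g : G} {n : ℕ} (h : n ∣ orderOf g) : ∃ x : G, orderOf x = n := by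
  obtain ⟨k, hk⟩ := h
  have hpos := orderOf_pos g
  have hk0 : k ≠ 0 := by
    rintro rfl
    omega
  refine ⟨g ^ k, ?_⟩
  rw [orderOf_pow' g hk0, hk, Nat.gcd_mul_left_left, Nat.mul_div_cancel _ (Nat.pos_of_ne_zero hk0)]

omit [Finite G] in
theorem orderOf_mul_prime {x y : G} (h : x * y = y * x) {r s : ℕ} (hr : r.Prime) (hs : s.Prime) (hrs : r ≠ s)
    (hx : orderOf x = r) (hy : orderOf y = s) : orderOf (x * y) = r * s := by
  have hc : Commute x y := h
  rw [hc.orderOf_mul_eq_mul_orderOf_of_coprime, hx, hy]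
  rw [hx, hy]
  exact (Nat.coprime_primes hr hs).2 hrs

open scoped Pointwise in
theorem frob_map {G L : Type*} [Group G] [Group L] (φ : G ≃* L) (C : Subgroup G)
    (hC : Cfsg.IsFrobeniusComplement C) : Cfsg.IsFrobeniusComplement (C.map φ.toMonoidHom) := by
  obtain ⟨h1, h2, h3⟩ := hC
  have hinj : Function.Injective φ.toMonoidHom := φ.injective
  refine ⟨?_, ?_, ?_⟩
  · rw [Ne, Subgroup.map_eq_bot_iff_of_injective _ hinj]
    exact h1
  · intro h
    apply h2
    rw [← Subgroup.comap_map_eq_self_of_injective hinj C, h, Subgroup.comap_top]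
  · intro g hg
    rw [eq_bot_iff]
    rintro x ⟨hx1, hx2⟩
    obtain ⟨y, hy, rfl⟩ := hx1
    have hg' : φ.symm g ∉ C := by
      intro h
      apply hg
      exact ⟨_, h, by simp⟩
    have hx2' : (MulAut.conj g)⁻¹ • (φ.toMonoidHom y) ∈ C.map φ.toMonoidHom :=
      Subgroup.mem_pointwise_smul_iff_inv_smul_mem.1 hx2
    obtain ⟨z, hz, hz'⟩ := hx2'
    have h4 : φ z = g⁻¹ * φ y * g := by
      have h5 : φ.toMonoidHom z = (MulAut.conj g)⁻¹ • (φ.toMonoidHom y) := hz'
      rw [MulAut.smul_def, MulAut.conj_inv_apply] at h5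
      exact h5
    have h5 : z = (φ.symm g)⁻¹ * y * φ.symm g := by
      apply φ.injective
      rw [h4]
      simp
    have h6 : y ∈ C ⊓ (MulAut.conj (φ.symm g) • C) := by
      refine ⟨hy, ?_⟩
      change y ∈ MulAut.conj (φ.symm g) • C
      rw [Subgroup.mem_pointwise_smul_iff_inv_smul_mem, MulAut.smul_def, MulAut.conj_inv_apply, ← h5]
      exact hz
    rw [h3 _ hg', Subgroup.mem_bot] at h6
    rw [Subgroup.mem_bot, h6, map_one]

/-- (after helper390) -/
theorem frob_type {G : Type*} [Group G] [Finite G] (C : Subgroup G) (hC : Cfsg.IsFrobeniusComplement C) :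
    ∃ (L : Type) (_ : Group L) (_ : Finite L) (H : Subgroup L), Cfsg.IsFrobeniusComplement H ∧ Nonempty (C ≃* H) := by
  let φ : G ≃* Shrink.{0} G := (Shrink.mulEquiv : Shrink.{0} G ≃* G).symm
  refine ⟨Shrink.{0} G, inferInstance, Finite.of_equiv _ φ.toEquiv, C.map φ.toMonoidHom, frob_map φ C hC, ⟨?_⟩⟩
  exact Subgroup.equivMapOfInjective C φ.toMonoidHom φ.injective

theorem card_sl25 : Nat.card (Matrix.SpecialLinearGroup (Fin 2) (ZMod 5)) = 120 := by
  rw [Nat.card_eq_fintype_card]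
  decide +kernel

open scoped Pointwise in
/-- primes larger than 5 in `SL(2, 5) × M` -/
theorem dvd_of_prod {C : Type*} [Group C] [Finite C] {G₀ S M : Subgroup C} (hidx : G₀.index = 1 ∨ G₀.index = 2)
    (hSM : S ⊔ M = G₀) (hi : S ⊓ M = ⊥) (hcomm : ∀ s ∈ S, ∀ x ∈ M, s * x = x * s)
    (hS : Nat.card S = 120) {r : ℕ} (hr : r.Prime) (hr5 : 5 < r) (hrC : r ∣ Nat.card C) :
    r ∣ Nat.card M := by
  have h1 : r ∣ Nat.card G₀ := by
    have h2 := G₀.card_mul_index
    rw [← h2] at hrC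
    rcases hr.dvd_mul.1 hrC with h3 | h3
    · exact h3
    · exfalso
      rcases hidx with h4 | h4 <;> rw [h4] at h3
      · exact hr.one_lt.ne' (Nat.dvd_one.1 h3)
      · have := Nat.le_of_dvd (by norm_num) h3
        omega
  have hMn : S ≤ Subgroup.normalizer (M : Set C) := by
    intro s hs
    rw [Subgroup.mem_normalizer_iff]
    intro x
    constructor
    · intro hx
      rw [hcomm s hs x hx, mul_assoc, mul_inv_cancel, mul_one]
      exact hx
    · intro hx
      have h4 := hcomm s⁻¹ (inv_mem hs) _ hx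
      have h5 : s⁻¹ * (s * x * s⁻¹) = x * s⁻¹ := by group
      have h6 : x = s * x * s⁻¹ := by
        have h7 : x * s⁻¹ = s * x * s⁻¹ * s⁻¹ := by rw [← h5, h4]
        exact mul_right_cancel h7
      rw [h6]
      exact hx
  have h2 : Nat.card G₀ = Nat.card S * Nat.card M := by
    have h3 : ((S : Set C) * (M : Set C)) = (G₀ : Set C) := by
      rw [← Subgroup.coe_mul_of_left_le_normalizer_right S M hMn, hSM]
    have h4 : Function.Injective (fun y : S × M => (y.1 : C) * (y.2 : C)) := by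
      rintro ⟨s, x⟩ ⟨s', x'⟩ h
      replace h : (s : C) * x = s' * x' := h
      have h5 : (s' : C)⁻¹ * s = x' * (x : C)⁻¹ := by
        rw [inv_mul_eq_iff_eq_mul, ← mul_assoc, ← h, mul_inv_cancel_right]
      have h6 : (s' : C)⁻¹ * s ∈ S ⊓ M := ⟨S.mul_mem (S.inv_mem s'.2) s.2, by
        change (s' : C)⁻¹ * s ∈ M
        rw [h5]
        exact M.mul_mem x'.2 (M.inv_mem x.2)⟩
      rw [hi, Subgroup.mem_bot] at h6
      rw [h6] at h5
      have h7 : s = s' := Subtype.ext (by rw [inv_mul_eq_one] at h6; exact h6.symm)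
      have h8 : x = x' := Subtype.ext (by
        have := eq_mul_inv_iff_mul_eq.1 h5
        rw [one_mul] at this
        exact this)
      rw [h7, h8]
    have h5 : Set.range (fun y : S × M => (y.1 : C) * (y.2 : C)) = (G₀ : Set C) := by
      rw [← h3]
      ext z
      constructor
      · rintro ⟨⟨s, x⟩, rfl⟩
        exact ⟨s, s.2, x, x.2, rfl⟩
      · rintro ⟨s, hs, x, hx, rfl⟩
        exact ⟨⟨⟨s, hs⟩, ⟨x, hx⟩⟩, rfl⟩
    rw [← Nat.card_prod, ← Nat.card_range_of_injective h4, h5]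
    rfl
  rw [h2, hS] at h1
  rcases hr.dvd_mul.1 h1 with h3 | h3
  · exfalso
    have h4 : r ∣ 2 ^ 3 * (3 * 5) := h3
    rcases hr.dvd_mul.1 h4 with h4 | h4
    · have := Nat.le_of_dvd (by norm_num) (hr.dvd_of_dvd_pow h4)
      omega
    · rcases hr.dvd_mul.1 h4 with h4 | h4
      · have := Nat.le_of_dvd (by norm_num) h4
        omega
      · have := Nat.le_of_dvd (by norm_num) h4
        omega
  · exact h3

end gen

namespace Hyp

variable {p q : ℕ} {G : Type*} [Group G] [Finite G] (h : Hyp p q G)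

include h

omit [Finite G] in
theorem dvd_card {r : ℕ} (hd : r ∣ mm q) : r ∣ Nat.card G := by
  obtain ⟨g, hg⟩ := h.mmo
  exact hd.trans (hg ▸ orderOf_dvd_natCard g)

omit [Finite G] in
/-- three pairwise non-adjacent primes -/
theorem exists_coclique {s : ℕ} (hs : s.Prime) (hsm : s ∣ mm q) : ∃ r3 r6 : ℕ, r3.Prime ∧ r6.Prime ∧ 5 < r3 ∧ 5 < r6 ∧
    ({r3, r6, s} : Finset ℕ).card = 3 ∧
    ((∀ r ∈ ({r3, r6, s} : Finset ℕ), r.Prime ∧ r ∣ Nat.card G) ∧
      (∀ r ∈ ({r3, r6, s} : Finset ℕ), ∀ t ∈ ({r3, r6, s} : Finset ℕ), r ≠ t → ¬ ∃ x : G, orderOf x = r * t)) := by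
  have hP := h.par
  have hq := hP.hq
  obtain ⟨r3, hr3, hr35, hr3d⟩ := exists_r3 hP
  obtain ⟨r6, hr6, hr65, hr6d⟩ := exists_r6 hP
  have h3m : ¬ r3 ∣ mm q := fun h => (prime_mm (by omega) hr3 h).2.2.1 (by
    rw [cube_sub (by omega)]; exact Dvd.dvd.mul_right hr3d _)
  have h6m : ¬ r6 ∣ mm q := fun h => (prime_mm (by omega) hr6 h).2.2.2 (by
    rw [cube_add (by omega)]; exact Dvd.dvd.mul_right hr6d _)
  have n36 : ¬ ∃ x : G, orderOf x = r3 * r6 := by
    rintro ⟨x, hx⟩
    exact not_om_three_six hP hr3 hr35 hr3d hr6 hr65 hr6d (hx ▸ h.om x)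
  have n3s : ¬ ∃ x : G, orderOf x = r3 * s := by
    rintro ⟨x, hx⟩
    exact not_om_mul hP hs hsm h3m (by rw [mul_comm, ← hx]; exact h.om x)
  have n6s : ¬ ∃ x : G, orderOf x = r6 * s := by
    rintro ⟨x, hx⟩
    exact not_om_mul hP hs hsm h6m (by rw [mul_comm, ← hx]; exact h.om x)
  have e36 : r3 ≠ r6 := by
    rintro rfl
    have h1 : r3 ∣ (q ^ 2 + q + 1) - (q ^ 2 - q + 1) := Nat.dvd_sub hr3d hr6d
    have h2 := sq_sub (q := q) (by omega)
    have h3 : (q ^ 2 + q + 1) - (q ^ 2 - q + 1) = 2 * q := by omega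
    rw [h3, hr3.dvd_mul] at h1
    rcases h1 with h1 | h1
    · have := Nat.le_of_dvd (by norm_num) h1
      omega
    · have h4 : r3 ∣ q ^ 2 + q := by
        have : q ^ 2 + q = q * (q + 1) := by ring
        rw [this]
        exact Dvd.dvd.mul_right h1 _
      have h5 := (Nat.dvd_add_right h4).1 hr3d
      exact hr3.one_lt.ne' (Nat.dvd_one.1 h5)
  have e3s : r3 ≠ s := by
    rintro rfl
    exact h3m hsm
  have e6s : r6 ≠ s := by
    rintro rfl
    exact h6m hsm
  have hcard : ∀ r : ℕ, (∃ g : G, orderOf g = r) → r ∣ Nat.card G := by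
    rintro r ⟨g, rfl⟩
    exact orderOf_dvd_natCard g
  refine ⟨r3, r6, hr3, hr6, hr35, hr65, ?_, ?_, ?_⟩
  · rw [Finset.card_eq_three]
    exact ⟨r3, r6, s, e36, e3s, e6s, rfl⟩
  · intro r hr
    simp only [Finset.mem_insert, Finset.mem_singleton] at hr
    rcases hr with rfl | rfl | rfl
    · exact ⟨hr3, hcard _ (h.r3 _ hr3 hr3d)⟩
    · exact ⟨hr6, hcard _ (h.r6 _ hr6 hr6d)⟩
    · exact ⟨hs, h.dvd_card hsm⟩
  · intro r hr t ht hrt
    simp only [Finset.mem_insert, Finset.mem_singleton] at hr ht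
    rcases hr with rfl | rfl | rfl <;> rcases ht with rfl | rfl | rfl
    · exact absurd rfl hrt
    · exact n36
    · exact n3s
    · rw [mul_comm]; exact n36
    · exact absurd rfl hrt
    · exact n6s
    · rw [mul_comm]; exact n3s
    · rw [mul_comm]; exact n6s
    · exact absurd rfl hrt

theorem not_solvable : ¬ Group.IsSolvable G := by
  obtain ⟨s, hs, hsm⟩ := exists_prime_mm h.par
  obtain ⟨r3, r6, -, -, -, -, h1, h2⟩ := h.exists_coclique hs hsm
  exact (Cfsg.Agent.S3633.result _ h1.ge h2 ⊥ inferInstance).2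

omit [Finite G] in
theorem even : Even (Nat.card G) := by
  obtain ⟨g, hg⟩ := h.two
  exact even_iff_two_dvd.2 (hg ▸ orderOf_dvd_natCard g)

omit [Finite G] in
/-- primes which can be reached from 2 -/
theorem not_dvd_of_path {r : ℕ} (hr : Relation.ReflTransGen (fun a b : ℕ => a.Prime ∧ b.Prime ∧ a ≠ b ∧
    a ∣ Nat.card G ∧ b ∣ Nat.card G ∧ ∃ g : G, orderOf g = a * b) 2 r) : ¬ r ∣ mm q := by
  induction hr with
  | refl => exact mm_odd q
  | tail _ hab ih =>
    obtain ⟨ha, hb, -, -, -, g, hg⟩ := hab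
    intro hbm
    exact not_om_mul h.par hb hbm ih (by rw [mul_comm, ← hg]; exact h.om g)

omit [Finite G] in
theorem disc : ∃ A : Set ℕ, (∃ a ∈ A, a.Prime ∧ a ∣ Nat.card G) ∧ (∃ b ∉ A, b.Prime ∧ b ∣ Nat.card G) ∧
      ∀ a ∈ A, ∀ b ∉ A, a.Prime → b.Prime → a ∣ Nat.card G → b ∣ Nat.card G → ¬ ∃ g : G, orderOf g = a * b := by
  obtain ⟨s, hs, hsm⟩ := exists_prime_mm h.par
  refine ⟨{a | a ∣ mm q}, ⟨s, hsm, hs, h.dvd_card hsm⟩, ⟨2, mm_odd q, Nat.prime_two, h.even.two_dvd⟩, ?_⟩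
  rintro a ha b hb hap hbp - - ⟨g, hg⟩
  exact not_om_mul h.par hap ha hb (hg ▸ h.om g)

/-! ### the group is not a Frobenius group -/

theorem not_frobenius {C : Subgroup G} (hC : IsFrobeniusComplement C) : False := by
  obtain ⟨N, hN, hNn, hNnil⟩ := Cfsg.Agent.S0042.result C hC
  obtain ⟨N', hN', -, hcomp⟩ := Cfsg.Agent.S0035.result C hC
  obtain rfl : N' = N := SetLike.coe_injective (hN'.trans hN.symm)
  have hNs : Group.IsSolvable ↥N' := inferInstance
  have hcardG : Nat.card N' * Nat.card C = Nat.card G := hcomp.card_mul_card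
  -- the complement is not soluble
  have hCs : ¬ Group.IsSolvable ↥C := by
    intro hCs
    apply h.not_solvable
    have h1 : Group.IsSolvable (G ⧸ N') := by
      have hsur : Function.Surjective ((QuotientGroup.mk' N').comp C.subtype) := by
        intro x
        obtain ⟨g, rfl⟩ := QuotientGroup.mk'_surjective N' x
        obtain ⟨⟨⟨n, hn⟩, ⟨c, hc⟩⟩, hnc⟩ := hcomp.2 g
        refine ⟨⟨c, hc⟩, ?_⟩
        replace hnc : n * c = g := hnc
        rw [← hnc, map_mul]
        have h2 : QuotientGroup.mk' N' n = 1 := (QuotientGroup.eq_one_iff n).2 hn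
        rw [h2, one_mul]
        rfl
      exact Group.isSolvable_of_surjective hsur
    exact Group.isSolvable_of_ker_le_range N'.subtype (QuotientGroup.mk' N') (by
      rw [QuotientGroup.ker_mk', Subgroup.range_subtype])
  -- its structure
  obtain ⟨G₀, -, hidx, S, M, hSM, hSMi, hcomm, ⟨eS⟩, hcyc, h30⟩ := Cfsg.Agent.S3359.result (G := ↥C) hCs
    (frob_type C hC)
  have hcardM : ∀ r : ℕ, r.Prime → 5 < r → r ∣ Nat.card C → r ∣ Nat.card M := fun r hr hr5 hrC =>
    dvd_of_prod hidx hSM hSMi hcomm (by rw [Nat.card_congr eS.toEquiv, card_sl25]) hr hr5 hrC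
  have hMs : Group.IsSolvable ↥M := by
    have : IsZGroup ↥M := ⟨fun p hp P => by
      have : Fact p.Prime := ⟨hp⟩
      exact hcyc p P⟩
    infer_instance
  obtain ⟨s, hs, hsm⟩ := exists_prime_mm h.par
  -- `s` does not divide the order of the complement
  have hsC : ¬ s ∣ Nat.card C := by
    intro hsC
    have hfs : Fact s.Prime := ⟨hs⟩
    have h2f : Fact (Nat.Prime 2) := ⟨Nat.prime_two⟩
    obtain ⟨x, hx⟩ := exists_prime_orderOf_dvd_card' (G := M) s (hcardM s hs (five_lt_of_mm h.par hs hsm) hsC)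
    obtain ⟨z, hz⟩ := exists_prime_orderOf_dvd_card' (G := S) 2 (by
      rw [Nat.card_congr eS.toEquiv, card_sl25]
      norm_num)
    have h1 : orderOf ((z : C) * (x : C)) = 2 * s := by
      refine orderOf_mul_prime (hcomm z z.2 x x.2) Nat.prime_two hs ?_ ?_ ?_
      · have := five_lt_of_mm h.par hs hsm
        omega
      · rw [Subgroup.orderOf_coe, hz]
      · rw [Subgroup.orderOf_coe, hx]
    have h2 := h.om (((z : C) * (x : C) : C) : G)
    rw [Subgroup.orderOf_coe, h1, mul_comm] at h2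
    exact not_om_mul h.par hs hsm (mm_odd q) h2
  have hsN : s ∣ Nat.card N' := by
    have h1 := h.dvd_card hsm
    rw [← hcardG] at h1
    exact (hs.dvd_mul.1 h1).resolve_right hsC
  obtain ⟨r3, r6, hr3, hr6, hr35, hr65, hcard, hcoc⟩ := h.exists_coclique hs hsm
  have hne3 : r3 ≠ s := by
    rintro rfl
    have := Finset.card_le_two (a := r3) (b := r6)
    rw [show ({r3, r6, r3} : Finset ℕ) = {r3, r6} by ext; simp; tauto] at hcard
    omega
  have hne6 : r6 ≠ s := by
    rintro rfl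
    have := Finset.card_le_two (a := r3) (b := r6)
    rw [show ({r3, r6, r6} : Finset ℕ) = {r3, r6} by ext; simp] at hcard
    omega
  have hsol := (Cfsg.Agent.S3633.result _ hcard.ge hcoc N' hNs).1
  have hdvd : ∀ r : ℕ, r ∈ ({r3, r6, s} : Finset ℕ) → r ≠ s → 5 < r → r ∣ Nat.card M := by
    intro r hr hrs hr5
    obtain ⟨hrp, hrG⟩ := hcoc.1 r hr
    have h1 : ¬ r ∣ Nat.card N' := fun h2 => hrs (hsol r hr s (by simp) h2 hsN)
    rw [← hcardG] at hrG
    exact hcardM r hrp hr5 ((hrp.dvd_mul.1 hrG).resolve_left h1)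
  -- a soluble subgroup
  obtain ⟨M', hM'⟩ : ∃ M' : Subgroup G, M' = M.map C.subtype := ⟨_, rfl⟩
  have hcM' : Nat.card M' = Nat.card M := by
    rw [hM']
    exact Nat.card_congr (Subgroup.equivMapOfInjective M C.subtype C.subtype_injective).symm.toEquiv
  have hMM : Group.IsSolvable ↥M' := by
    rw [hM']
    exact Group.isSolvable_of_surjective (f := (Subgroup.equivMapOfInjective M C.subtype
      C.subtype_injective).toMonoidHom) (Subgroup.equivMapOfInjective M C.subtype C.subtype_injective).surjective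
  have hHs : Group.IsSolvable ↥(N' ⊔ M') := by
    let f : ↥(N' ⊔ M') →* G ⧸ N' := (QuotientGroup.mk' N').comp (N' ⊔ M').subtype
    have hfr : f.range = M'.map (QuotientGroup.mk' N') := by
      rw [MonoidHom.range_comp, Subgroup.range_subtype, Subgroup.map_sup, QuotientGroup.map_mk'_self, bot_sup_eq]
    have hs1 : Group.IsSolvable ↥f.range := by
      rw [hfr]
      exact Group.isSolvable_of_surjective (f := (QuotientGroup.mk' N').subgroupMap M')
        ((QuotientGroup.mk' N').subgroupMap_surjective M')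
    refine Group.isSolvable_of_ker_le_range (Subgroup.inclusion (le_sup_left : N' ≤ N' ⊔ M')) f.rangeRestrict ?_
    intro y hy
    have h1 : (y : G) ∈ N' := by
      have h2 := congrArg Subtype.val ((MonoidHom.mem_ker).1 hy)
      exact (QuotientGroup.eq_one_iff (y : G)).1 h2
    exact ⟨⟨y, h1⟩, rfl⟩
  refine (Cfsg.Agent.S3633.result (G := ↥(N' ⊔ M')) _ hcard.ge ⟨?_, ?_⟩ ⊥ inferInstance).2 hHs
  · intro r hr
    refine ⟨(hcoc.1 r hr).1, ?_⟩
    by_cases hrs : r = s
    · rw [hrs]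
      exact hsN.trans (Subgroup.card_dvd_of_le le_sup_left)
    · have h5 : 5 < r := by
        simp only [Finset.mem_insert, Finset.mem_singleton] at hr
        rcases hr with rfl | rfl | rfl
        · exact hr35
        · exact hr65
        · exact absurd rfl hrs
      exact (hcM' ▸ hdvd r hr hrs h5).trans (Subgroup.card_dvd_of_le le_sup_right)
  · rintro r hr t ht hrt ⟨x, hx⟩
    exact hcoc.2 r hr t ht hrt ⟨x, by rw [Subgroup.orderOf_coe, hx]⟩

/-! ### the socle -/

/-- `N` is nilpotent, by Thompson's theorem. -/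
theorem nilpotent {N : Subgroup G} [N.Normal] (hN : ∀ r : ℕ, r.Prime → r ∣ Nat.card N → ¬ r ∣ mm q) :
    Group.IsNilpotent ↥N := by
  rcases subsingleton_or_nontrivial ↥N with hsub | hnt
  · exact Group.isNilpotent_of_subsingleton
  obtain ⟨s, hs, hsm⟩ := exists_prime_mm h.par
  obtain ⟨g, hg⟩ := h.mmo
  obtain ⟨x, hx⟩ := exists_orderOf_dvd (g := g) (n := s) (by rw [hg]; exact hsm)
  have hφ : ∀ n : ↥N, (MulAut.conjNormal x : MulAut ↥N) n = n → n = 1 := by
    intro n hn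
    by_contra hn1
    have hn2 : x * (n : G) * x⁻¹ = n := congrArg Subtype.val hn
    obtain ⟨t, ht, htn⟩ := Nat.exists_prime_and_dvd (n := orderOf n) (fun h1 => hn1 (orderOf_eq_one_iff.1 h1))
    have htN := htn.trans (orderOf_dvd_natCard n)
    have htm := hN t ht htN
    obtain ⟨k, hk⟩ := htn
    have hpos := orderOf_pos n
    have hk0 : k ≠ 0 := by
      rintro rfl
      omega
    have h1 : orderOf ((n : G) ^ k) = t := by
      rw [← Subgroup.coe_pow, Subgroup.orderOf_coe, orderOf_pow' n hk0, hk, Nat.gcd_mul_left_left,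
        Nat.mul_div_cancel _ (Nat.pos_of_ne_zero hk0)]
    have h2 : Commute x ((n : G) ^ k) := by
      apply Commute.pow_right
      show x * (n : G) = n * x
      nth_rewrite 2 [← hn2]
      group
    have h3 := orderOf_mul_prime (h2 : x * (n : G) ^ k = (n : G) ^ k * x) hs ht (by
      rintro rfl
      exact htm hsm) hx h1
    exact not_om_mul h.par hs hsm htm (h3 ▸ h.om _)
  refine Cfsg.Agent.S0033.result (MulAut.conjNormal x : MulAut ↥N) hφ s hs ?_
  have hfs : Fact s.Prime := ⟨hs⟩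
  refine orderOf_eq_prime ?_ ?_
  · rw [← map_pow, ← hx, pow_orderOf_eq_one, map_one]
  · intro h1
    obtain ⟨n, hn⟩ := exists_ne (1 : ↥N)
    exact hn (hφ n (by rw [h1]; rfl))

/-- the good case -/
theorem socle_of {N M : Subgroup G} [N.Normal] [M.Normal] (hNM : N ≤ M)
    (hN : ∀ r : ℕ, r.Prime → r ∣ Nat.card N → ¬ r ∣ mm q) (hM : ∀ r : ℕ, r.Prime → r ∣ Nat.card (G ⧸ M) → ¬ r ∣ mm q)
    (hs : IsSimpleGroup (↥M ⧸ N.subgroupOf M)) (hnc : ¬ IsMulCommutative (↥M ⧸ N.subgroupOf M)) :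
    ∃ S : Subgroup (G ⧸ N), S.Normal ∧ IsSimpleGroup ↥S ∧ ¬ IsMulCommutative ↥S ∧
      Subgroup.centralizer (S : Set (G ⧸ N)) = ⊥ ∧ ∃ x : ↥S, orderOf x = mm q := by
  obtain ⟨S, hS⟩ : ∃ S : Subgroup (G ⧸ N), S = M.map (QuotientGroup.mk' N) := ⟨_, rfl⟩
  have hSn : S.Normal := by
    rw [hS]
    exact Subgroup.Normal.map inferInstance _ (QuotientGroup.mk'_surjective N)
  have hker : ((QuotientGroup.mk' N).subgroupMap M).ker = N.subgroupOf M := by
    ext x
    rw [MonoidHom.mem_ker, Subgroup.mem_subgroupOf, ← QuotientGroup.eq_one_iff]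
    exact Subtype.ext_iff
  let e₁ : (↥M ⧸ N.subgroupOf M) ≃* ↥(M.map (QuotientGroup.mk' N)) :=
    (QuotientGroup.quotientMulEquivOfEq hker.symm).trans (QuotientGroup.quotientKerEquivOfSurjective _
      ((QuotientGroup.mk' N).subgroupMap_surjective M))
  let e : (↥M ⧸ N.subgroupOf M) ≃* ↥S := e₁.trans (MulEquiv.subgroupCongr hS.symm)
  have hSs : IsSimpleGroup ↥S := MulEquiv.isSimpleGroup e.symm
  have hSc : ¬ IsMulCommutative ↥S := by
    intro hc
    apply hnc
    refine ⟨⟨fun a b => e.injective ?_⟩⟩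
    rw [map_mul, map_mul]
    exact hc.is_comm.comm _ _
  have hcomap : S.comap (QuotientGroup.mk' N) = M := by
    rw [hS, QuotientGroup.comap_map_mk', sup_eq_right.2 hNM]
  have hidx : S.index = Nat.card (G ⧸ M) := by
    rw [← Subgroup.index_comap_of_surjective S (QuotientGroup.mk'_surjective N), hcomap]
    rfl
  -- the element of order `mm q`
  have hcop : ∀ n : ℕ, (∀ r : ℕ, r.Prime → r ∣ n → ¬ r ∣ mm q) → Nat.Coprime (mm q) n := by
    intro n hn
    by_contra hc
    obtain ⟨p, hp, h1, h2⟩ := Nat.Prime.not_coprime_iff_dvd.mp hc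
    exact hn p hp h2 h1
  obtain ⟨g, hg⟩ := h.mmo
  obtain ⟨x, hx⟩ := Cfsg.Agent.H375.Reduce.exists_mem_orderOf N S g (by rw [hg]; exact hcop _ hN)
    (by rw [hg, hidx]; exact hcop _ hM)
  rw [hg] at hx
  refine ⟨S, hSn, hSs, hSc, ?_, x, hx⟩
  by_contra hC
  obtain ⟨C, hCC⟩ : ∃ C : Subgroup (G ⧸ N), C = Subgroup.centralizer (S : Set (G ⧸ N)) := ⟨_, rfl⟩
  rw [← hCC] at hC
  have hinf : ∀ y ∈ C, y ∈ S → y = 1 := by
    intro y hyC hyS
    rw [hCC, Subgroup.mem_centralizer_iff] at hyC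
    have h1 : (⟨y, hyS⟩ : ↥S) ∈ Subgroup.center ↥S := by
      rw [Subgroup.mem_center_iff]
      intro z
      exact Subtype.ext (hyC z z.2)
    rcases (Subgroup.Normal.eq_bot_or_eq_top (inferInstance : (Subgroup.center ↥S).Normal)) with h2 | h2
    · rw [h2, Subgroup.mem_bot] at h1
      exact congrArg Subtype.val h1
    · exfalso
      apply hSc
      refine ⟨⟨fun a b => ?_⟩⟩
      have h3 : a ∈ Subgroup.center ↥S := h2 ▸ Subgroup.mem_top a
      exact (Subgroup.mem_center_iff.1 h3 b).symm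
  have hdvd : Nat.card C ∣ S.index := by
    have h1 : Function.Injective ((QuotientGroup.mk' S).comp C.subtype) := by
      rw [injective_iff_map_eq_one]
      intro y hy
      exact Subtype.ext (hinf y y.2 ((QuotientGroup.eq_one_iff (y : G ⧸ N)).1 hy))
    exact Subgroup.card_dvd_of_injective _ h1
  obtain ⟨t, ht, htC⟩ := Nat.exists_prime_and_dvd (n := Nat.card C) (fun h1 => hC (Subgroup.card_eq_one.1 h1))
  have hft : Fact t.Prime := ⟨ht⟩
  obtain ⟨y, hy⟩ := exists_prime_orderOf_dvd_card' (G := ↥C) t htC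
  have htm := hM t ht (hidx ▸ htC.trans hdvd)
  obtain ⟨s, hs', hsm⟩ := exists_prime_mm h.par
  obtain ⟨x', hx'⟩ := exists_orderOf_dvd (g := x) (n := s) (by rw [hx]; exact hsm)
  have hyC : (y : G ⧸ N) ∈ Subgroup.centralizer (S : Set (G ⧸ N)) := hCC.le y.2
  rw [Subgroup.mem_centralizer_iff] at hyC
  have h1 := orderOf_mul_prime (hyC x' x'.2) hs' ht (by
    rintro rfl
    exact htm hsm) (by rw [Subgroup.orderOf_coe, hx']) (by rw [Subgroup.orderOf_coe, hy])
  obtain ⟨z, hz⟩ := Cfsg.Agent.H375.Cover.exists_orderOf_of_surj (QuotientGroup.mk' N)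
    (QuotientGroup.mk'_surjective N) ((x' : G ⧸ N) * (y : G ⧸ N))
  rw [h1] at hz
  exact not_om_mul h.par hs' hsm htm (hz ▸ h.om z)

/-- **The structure theorem.** -/
theorem exists_socle (hGK : (∃ C : Subgroup G, Cfsg.IsFrobeniusComplement C) ∨
    (∃ (H K : Subgroup G) (_ : H.Normal), K.Normal ∧ H < K ∧
      (∃ C : Subgroup ↥K, Cfsg.IsFrobeniusComplement C ∧ Cfsg.frobeniusKernel C = (H.subgroupOf K : Set ↥K)) ∧
      (∃ C : Subgroup (G ⧸ H), Cfsg.IsFrobeniusComplement C ∧ Cfsg.frobeniusKernel C = (K.map (QuotientGroup.mk' H) : Set (G ⧸ H)))) ∨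
    (∃ (N M : Subgroup G) (_ : N.Normal) (_ : M.Normal), N ≤ M ∧
      (∀ p : ℕ, p.Prime → p ∣ Nat.card ↥N → Relation.ReflTransGen (fun a b : ℕ => a.Prime ∧ b.Prime ∧ a ≠ b ∧ a ∣ Nat.card G ∧ b ∣ Nat.card G ∧ ∃ g : G, orderOf g = a * b) 2 p) ∧
      (∀ p : ℕ, p.Prime → p ∣ Nat.card (G ⧸ M) → Relation.ReflTransGen (fun a b : ℕ => a.Prime ∧ b.Prime ∧ a ≠ b ∧ a ∣ Nat.card G ∧ b ∣ Nat.card G ∧ ∃ g : G, orderOf g = a * b) 2 p) ∧
      IsSimpleGroup (↥M ⧸ N.subgroupOf M) ∧ ¬ IsMulCommutative (↥M ⧸ N.subgroupOf M))) :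
    ∃ (N : Subgroup G) (_ : N.Normal), Group.IsSolvable ↥N ∧
      ∃ S : Subgroup (G ⧸ N), S.Normal ∧ IsSimpleGroup ↥S ∧ ¬ IsMulCommutative ↥S ∧
        Subgroup.centralizer (S : Set (G ⧸ N)) = ⊥ ∧ ∃ x : ↥S, orderOf x = mm q := by
  rcases hGK with ⟨C, hC⟩ | ⟨H, K, _, _, hlt, hK, hGH⟩ | ⟨N, M, _, _, hNM, hN, hM, hs, hnc⟩
  · exact (h.not_frobenius hC).elim
  · exact absurd (Cfsg.Agent.S4001.result H K hlt hK hGH).1 h.not_solvable
  · have hN' : ∀ r : ℕ, r.Prime → r ∣ Nat.card N → ¬ r ∣ mm q := fun r hr hd => h.not_dvd_of_path (hN r hr hd)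
    have hM' : ∀ r : ℕ, r.Prime → r ∣ Nat.card (G ⧸ M) → ¬ r ∣ mm q := fun r hr hd => h.not_dvd_of_path (hM r hr hd)
    have hnil := h.nilpotent hN'
    exact ⟨N, inferInstance, inferInstance, h.socle_of hNM hN' hM' hs hnc⟩

end Hyp

end Cfsg.Agent.R2.Spec.X1.TD
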