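import Cfsg.Agent.R2.Spec.X1.Gen
import Cfsg.Agent.R2.Spec.X1.TD.Struct
import Cfsg.Agent.R2.Spec.X1.TD.Elts
import Cfsg.Agent.R2.Spec.X1.TD.OmD4
import Cfsg.Agent.R2.Spec.X1.TI.IdentMain
import Cfsg.Agent.S3478
import Cfsg.Agent.S3856
import Cfsg.Agent.S0000
import Cfsg.Agent.S1071

/-!
# `SpecQR` for `³D₄(q)`, `q ≠ 2`: the frame (helper13, S3435, box X1)
-/

set_option autoImplicit false

namespace Cfsg.Agent.R2.Spec.X1.TD

open Cfsg Cfsg.Lie

universe u v

/-- characteristic at least five -/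
theorem preQR_3D4_five {K : Type v} [Field K] [Fintype K] {p q : ℕ} [CharP K p] (hP : Par p q)
    (hK : Fintype.card K = q ^ 3) : PreQR.{u, v} ↥(twistedD4 K q) := by
  intro G _ _ h
  have hprime : p.Prime := hP.prime
  have hpf : Fact p.Prime := ⟨hprime⟩
  -- the spectrum
  have hωG : ∀ g : G, Om p q (orderOf g) := by
    intro g
    have h1 : orderOf g ∈ Set.range (orderOf : G → ℕ) := ⟨g, rfl⟩
    rw [h] at h1
    obtain ⟨l, hl⟩ := h1
    rw [← hl]
    exact om_3D4 hP hK l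
  have hex : ∀ n, (∃ l : twistedD4 K q, orderOf l = n) → ∃ g : G, orderOf g = n := by
    intro n hn
    have h1 : n ∈ Set.range (orderOf : twistedD4 K q → ℕ) := hn
    rw [← h] at h1
    exact h1
  have hH : Hyp p q G := ⟨hP, hωG, hex _ (exists_prime_order hP hK Nat.prime_two (Or.inl rfl)), hex _ (exists_mm hP hK),
    fun r hr hd => hex _ (exists_prime_order hP hK hr (Or.inr (Or.inl hd))),
    fun r hr hd => hex _ (exists_prime_order hP hK hr (Or.inr (Or.inr hd)))⟩
  -- the structure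
  obtain ⟨N, hN, hNs, S, hSn, hSs, hSc, hCS, hSm⟩ := hH.exists_socle (Cfsg.Agent.S3856.result hH.even hH.disc)
  have hω' : ∀ g : G ⧸ N, Om p q (orderOf g) := by
    intro g
    obtain ⟨x, hx⟩ := Cfsg.Agent.H375.Cover.exists_orderOf_of_surj (QuotientGroup.mk' N)
      (QuotientGroup.mk'_surjective N) g
    rw [← hx]
    exact hωG x
  -- the identification
  obtain ⟨e⟩ := TI.ident (p := p) (q := q) (S := ↥S) hSc Cfsg.Agent.S0000.result
    ⟨hP, fun x => by rw [← Subgroup.orderOf_coe]; exact hω' x, hSm⟩ hK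
  exact ⟨N, hN, hNs, S, hSn, ⟨e⟩⟩

/-- **`³D₄(q)`, `q ≠ 2`** -/
theorem preQR_3D4 {K : Type v} [Field K] [Fintype K] {q : ℕ} (hq : IsPrimePow q) (hq2 : q ≠ 2)
    (hK : Fintype.card K = q ^ 3) : PreQR.{u, v} ↥(twistedD4 K q) := by
  obtain ⟨p, hch⟩ := CharP.exists K
  have hprime : p.Prime := CharP.char_is_prime K p
  by_cases hp : p = 2 ∨ p = 3
  · intro G _ _ h
    obtain ⟨e⟩ := Cfsg.Agent.S3478.result (G := G) (K := K) p hp q hq hq2 hK h
    refine ⟨⊥, inferInstance, ?_, ⊤, inferInstance, ?_⟩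
    · exact Group.isSolvable_of_comm fun a b => Subsingleton.elim _ _
    · exact ⟨(Subgroup.topEquiv.trans QuotientGroup.quotientBot).trans e⟩
  · have hpf : Fact p.Prime := ⟨hprime⟩
    refine preQR_3D4_five (p := p) ⟨hprime, ?_, ?_⟩ hK
    · have h2 := hprime.two_le
      by_contra hlt
      push Not at hp hlt
      have : p = 4 := by omega
      subst this
      exact absurd hprime (by norm_num)
    · obtain ⟨n, -, hn⟩ := FiniteField.card K p
      rw [hK] at hn
      obtain ⟨k, -, hk⟩ := (Nat.dvd_prime_pow hprime).1 ((dvd_pow_self q (by norm_num : 3 ≠ 0)).trans hn.dvd)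
      refine ⟨k, ?_, hk⟩
      rcases Nat.eq_zero_or_pos k with rfl | hk0
      · rw [pow_zero] at hk
        exact absurd hk hq.one_lt.ne'
      · exact hk0

end Cfsg.Agent.R2.Spec.X1.TD
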