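import Mathlib

/-!
# The spectrum of `³D₄(q)`, `q` a power of a prime `p ≥ 5`: interface (helper13, S3435; after helper135, S3478)

* `Par p q` : `p ≥ 5` a prime, `q = p ^ k`;
* `mm q = q ^ 4 - q ^ 2 + 1`;
* `Om p q n` : the number `n` divides one of the listed numbers (a superset of the element orders of `³D₄(q)`).
-/

set_option autoImplicit false

namespace Cfsg.Agent.R2.Spec.X1.TD

structure Par (p q : ℕ) : Prop where
  prime : p.Prime
  h5 : 5 ≤ p
  hk : ∃ k, 1 ≤ k ∧ q = p ^ k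

def mm (q : ℕ) : ℕ := q ^ 4 - q ^ 2 + 1

/-- `n` divides one of the listed numbers -/
def Om (p q n : ℕ) : Prop :=
  n ∣ mm q ∨ n ∣ (q ^ 3 - 1) * (q + 1) ∨ n ∣ (q ^ 3 + 1) * (q - 1) ∨ n ∣ p * (q ^ 3 - 1) ∨ n ∣ p * (q ^ 3 + 1) ∨
    n ∣ p ^ 2

theorem Om.dvd {p q m n : ℕ} (h : Om p q n) (hd : m ∣ n) : Om p q m := by
  rcases h with h | h | h | h | h | h
  · exact Or.inl (hd.trans h)
  · exact Or.inr (Or.inl (hd.trans h))
  · exact Or.inr (Or.inr (Or.inl (hd.trans h)))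
  · exact Or.inr (Or.inr (Or.inr (Or.inl (hd.trans h))))
  · exact Or.inr (Or.inr (Or.inr (Or.inr (Or.inl (hd.trans h)))))
  · exact Or.inr (Or.inr (Or.inr (Or.inr (Or.inr (hd.trans h)))))

namespace Par

variable {p q : ℕ} (h : Par p q)

include h

theorem isPrimePow : IsPrimePow q := by
  obtain ⟨k, hk, rfl⟩ := h.hk
  exact h.prime.isPrimePow.pow (by omega)

theorem p_dvd : p ∣ q := by
  obtain ⟨k, hk, rfl⟩ := h.hk
  exact dvd_pow_self p (by omega)

theorem q5 : 5 ≤ q := by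
  obtain ⟨k, hk, rfl⟩ := h.hk
  exact h.h5.trans (Nat.le_self_pow (by omega) p)

theorem hq : 2 < q := by have := h.q5; omega

theorem p_le : p ≤ q := by
  obtain ⟨k, hk, rfl⟩ := h.hk
  exact Nat.le_self_pow (by omega) p

/-- `q = p` or `p ^ 2 ≤ q` -/
theorem eq_or : q = p ∨ p ^ 2 ≤ q := by
  obtain ⟨k, hk, rfl⟩ := h.hk
  rcases Nat.lt_or_ge k 2 with h1 | h1
  · left
    obtain rfl : k = 1 := by omega
    exact pow_one p
  · right
    exact Nat.pow_le_pow_right (by have := h.h5; omega) h1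

theorem q_odd : q % 2 = 1 := by
  obtain ⟨k, hk, rfl⟩ := h.hk
  have h1 : Odd p := h.prime.odd_of_ne_two (by have := h.h5; omega)
  exact Nat.odd_iff.1 h1.pow

/-- everything in terms of `a = q - 3`, in order to use `ring_nf`/`nlinarith` without subtraction -/
theorem exists_add : ∃ a : ℕ, q = a + 3 := ⟨q - 3, by have := h.q5; omega⟩

end Par

theorem mm_add (a : ℕ) : mm (a + 3) = (a + 3) ^ 2 * ((a + 2) * (a + 4)) + 1 := by
  unfold mm
  have h1 : (a + 3) ^ 4 = (a + 3) ^ 2 * ((a + 2) * (a + 4)) + (a + 3) ^ 2 := by ring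
  omega

end Cfsg.Agent.R2.Spec.X1.TD
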